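import Cfsg.Agent.Lib.Struct76.OrthSylow.Model
import Cfsg.Agent.Lib.Orth.Discriminant
import Cfsg.Agent.Lib.QuadFin.Gram
import Cfsg.Agent.Lib.ClassicalGroups.OrthCard
import Cfsg.Agent.Lib.POmega.Forms

/-!
# Sylow 2-subgroups of `Ω` in odd characteristic have elementary abelian abelianization
-/

set_option autoImplicit false
set_option linter.unusedSectionVars false

namespace CfsgLib.OmegaSylow76

open Matrix QuadraticMap CfsgLib.Orth

section transport

variable {F : Type*} [Field F] {ι κ : Type} [Fintype ι] [DecidableEq ι] [Fintype κ] [DecidableEq κ]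

/-- Isometric forms have isomorphic isometry groups. -/
noncomputable def isoO {Q : QuadraticForm F (ι → F)} {Q' : QuadraticForm F (κ → F)}
    (e : (κ → F) ≃ₗ[F] (ι → F)) (he : ∀ x, Q (e x) = Q' x) : O Q' ≃* O Q where
  toFun g := mkO (e.toLinearMap ∘ₗ app g ∘ₗ e.symm.toLinearMap) (e.toLinearMap ∘ₗ app g⁻¹ ∘ₗ e.symm.toLinearMap)
    (LinearMap.ext fun x => by simp [app_app_inv]) (LinearMap.ext fun x => by simp [app_inv_app])
    (fun x => by simp [he, ← he (e.symm x)])
  invFun g := mkO (e.symm.toLinearMap ∘ₗ app g ∘ₗ e.toLinearMap) (e.symm.toLinearMap ∘ₗ app g⁻¹ ∘ₗ e.toLinearMap)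
    (LinearMap.ext fun x => by simp [app_app_inv]) (LinearMap.ext fun x => by simp [app_inv_app])
    (fun x => by simp [← he])
  left_inv g := ext_app fun x => by simp [app_mkO]
  right_inv g := ext_app fun x => by simp [app_mkO]
  map_mul' g h := ext_app fun x => by simp [app_mkO]

theorem nondegenerate_comp (Q : QuadraticForm F (ι → F)) (hQ : Q.polarBilin.Nondegenerate)
    (e : (κ → F) ≃ₗ[F] (ι → F)) : (Q.comp e.toLinearMap).polarBilin.Nondegenerate := by
  have hp : ∀ x y, polar (Q.comp e.toLinearMap) x y = polar Q (e x) (e y) := fun x y => by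
    simp [QuadraticMap.polar, map_add]
  have key : ∀ x, (∀ y, polar (Q.comp e.toLinearMap) x y = 0) → x = 0 := fun x hx => by
    refine e.injective ((hQ.1 (e x) fun v => ?_).trans e.map_zero.symm)
    have h := hx (e.symm v)
    rwa [hp, e.apply_symm_apply] at h
  exact ⟨key, fun y hy => key y fun x => by rw [polar_comm]; exact hy x⟩

theorem elemAb_transport {Q : QuadraticForm F (ι → F)} {Q' : QuadraticForm F (κ → F)}
    (f : O Q' ≃* O Q)
    (h : ∀ P : Sylow 2 (commutator (O Q')), CfsgLib.WreathAb.ElemAb (P : Subgroup (commutator (O Q'))))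
    [Finite (O Q')] (P : Sylow 2 (commutator (O Q))) :
    CfsgLib.WreathAb.ElemAb (P : Subgroup (commutator (O Q))) := by
  have hmap : (commutator (O Q')).map f.toMonoidHom = commutator (O Q) := by
    rw [commutator_def, Subgroup.map_commutator, Subgroup.map_top_of_surjective _ f.surjective]
    rfl
  let g : commutator (O Q') ≃* commutator (O Q) :=
    (f.subgroupMap _).trans (MulEquiv.subgroupCongr hmap)
  have : Finite (commutator (O Q)) := Finite.of_equiv _ g.toEquiv
  let P' : Sylow 2 (commutator (O Q')) := P.mapSurjective (f := g.symm.toMonoidHom) g.symm.surjective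
  refine CfsgLib.WreathAb.ElemAb.of_equiv ?_ (h P')
  exact (g.symm.subgroupMap (P : Subgroup (commutator (O Q)))).symm

/-- The reindexed form. -/
noncomputable def reindex (Q : QuadraticForm F (ι → F)) {n : ℕ} (e : ι ≃ Fin n) :
    QuadraticForm F (Fin n → F) :=
  Q.comp (LinearEquiv.funCongrLeft F F e).toLinearMap

/-- The discriminant of the reindexed form. -/
noncomputable def disc (Q : QuadraticForm F (ι → F)) {n : ℕ} (e : ι ≃ Fin n) : F :=
  (CfsgLib.QuadFin.gram ⇑(reindex Q e)).det

theorem reindex_nondegenerate (Q : QuadraticForm F (ι → F)) (hQ : Q.polarBilin.Nondegenerate) {n : ℕ}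
    (e : ι ≃ Fin n) : (reindex Q e).polarBilin.Nondegenerate :=
  nondegenerate_comp Q hQ _

variable [Fintype F]

theorem exists_iso_of_disc (h2 : (2 : F) ≠ 0) {Q : QuadraticForm F (ι → F)}
    {Q' : QuadraticForm F (κ → F)} (hQ : Q.polarBilin.Nondegenerate) (hQ' : Q'.polarBilin.Nondegenerate)
    {n : ℕ} (e : ι ≃ Fin n) (e' : κ ≃ Fin n) (hs : IsSquare (disc Q' e' * disc Q e)) :
    ∃ g : (κ → F) ≃ₗ[F] (ι → F), ∀ x, Q (g x) = Q' x := by
  obtain ⟨g, hg⟩ := (CfsgLib.QuadFin.equiv_iff_isSquare h2 _ _ (reindex_nondegenerate Q' hQ' e')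
    (reindex_nondegenerate Q hQ e)).2 hs
  refine ⟨((LinearEquiv.funCongrLeft F F e').symm.trans g).trans (LinearEquiv.funCongrLeft F F e), fun x => ?_⟩
  have h := hg ((LinearEquiv.funCongrLeft F F e').symm x)
  simp only [reindex, QuadraticMap.comp_apply, LinearEquiv.coe_coe, LinearEquiv.apply_symm_apply] at h
  exact h

theorem disc_model {m r n : ℕ} (c : Fin r → F) (e : Ix m r ≃ Fin n) :
    disc (model m c) e = 2 ^ n * ∏ k, c k := by
  have : ⇑(reindex (model m c) e) = fun v : Fin n → F => ∑ i, (wt c ∘ e.symm) i * v i ^ 2 := by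
    funext v
    rw [reindex, QuadraticMap.comp_apply, model, QuadraticMap.weightedSumSquares_apply]
    refine Fintype.sum_equiv e _ _ fun i => ?_
    simp [LinearEquiv.funCongrLeft_apply, LinearMap.funLeft_apply, pow_two]
  rw [disc, this, CfsgLib.QuadFin.gram_diag, det_diagonal, Finset.prod_mul_distrib, Finset.prod_const,
    Finset.card_univ, Fintype.card_fin, show (∏ x, (wt c ∘ ⇑e.symm) x) = ∏ i, wt c i from Equiv.prod_comp e.symm (wt c), Fintype.prod_sum_type]
  simp [wt]

/-- The main theorem for an arbitrary form with a discriminant fitting a model. -/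
theorem elemAb_of_disc (h2 : (2 : F) ≠ 0) {Q : QuadraticForm F (ι → F)} (hQ : Q.polarBilin.Nondegenerate)
    {m r n : ℕ} (hn : 2 * m + r = n) (e : ι ≃ Fin n) (c : Fin r → F) (hc : ∀ k, c k ≠ 0) (hm : 2 ≤ m)
    (hs : IsSquare (2 ^ n * (∏ k, c k) * disc Q e))
    (hcard : (Nat.card (O Q)).factorization 2 =
      m * (Fintype.card F ^ 2 - 1).factorization 2 + m.factorial.factorization 2 + r)
    (P : Sylow 2 (commutator (O Q))) : CfsgLib.WreathAb.ElemAb (P : Subgroup (commutator (O Q))) := by
  classical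
  let e' : Ix m r ≃ Fin n := Fintype.equivFinOfCardEq (by simp [Ix]; omega)
  obtain ⟨g, hg⟩ := exists_iso_of_disc h2 hQ (model_nondegenerate c h2 hc) e e'
    (by rw [disc_model]; exact hs)
  refine elemAb_transport (isoO g hg) (sylow_omega_model c h2 hc hm ?_) P
  rw [← hcard]
  exact congrArg (fun t => t.factorization 2) (Nat.card_congr (isoO g hg).toEquiv)

theorem card_eq_of_disc (h2 : (2 : F) ≠ 0) {Q : QuadraticForm F (ι → F)}
    {Q' : QuadraticForm F (κ → F)} (hQ : Q.polarBilin.Nondegenerate) (hQ' : Q'.polarBilin.Nondegenerate)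
    {n : ℕ} (e : ι ≃ Fin n) (e' : κ ≃ Fin n) (hs : IsSquare (disc Q' e' * disc Q e)) :
    Nat.card (O Q') = Nat.card (O Q) := by
  obtain ⟨g, hg⟩ := exists_iso_of_disc h2 hQ hQ' e e' hs
  exact Nat.card_congr (isoO g hg).toEquiv

end transport

section standard

variable {F : Type*} [Field F] [Fintype F] (h2 : (2 : F) ≠ 0)

include h2

theorem odd_card_field : Odd (Fintype.card F) :=
  Nat.odd_iff.2 (FiniteField.odd_card_of_char_ne_two fun hc => h2 (by exact_mod_cast (ringChar.spec F 2).2 (by rw [hc])))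

theorem three_le_valuation : 3 ≤ (Fintype.card F ^ 2 - 1).factorization 2 := by
  have := factorization_card_circ h2 (F := F)
  omega

theorem factorization_prod_sq (k : ℕ) :
    (∏ i ∈ Finset.range k, (Fintype.card F ^ (2 * (i + 1)) - 1)).factorization 2 =
      k * (Fintype.card F ^ 2 - 1).factorization 2 + k.factorial.factorization 2 := by
  have h1 : 1 < Fintype.card F := Fintype.one_lt_card
  rw [CfsgLib.WreathAb.factorization_prod _ _ _ fun i _ => by
      have : 1 < Fintype.card F ^ (2 * (i + 1)) := Nat.one_lt_pow (by omega) h1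
      omega,
    Finset.sum_congr rfl fun i _ => CfsgLib.WreathAb.factorization_two_pow_sub_one (odd_card_field h2) h1
      i.succ_ne_zero,
    Finset.sum_add_distrib, Finset.sum_const, Finset.card_range, smul_eq_mul,
    CfsgLib.WreathAb.sum_factorization_succ]

theorem factorization_q_pow (k : ℕ) : (Fintype.card F ^ k).factorization 2 = 0 := by
  have hq : ¬ 2 ∣ Fintype.card F := Nat.two_dvd_ne_zero.2 (Nat.odd_iff.1 (odd_card_field h2))
  rw [Nat.factorization_pow, Finsupp.smul_apply, Nat.factorization_eq_zero_of_not_dvd hq, smul_zero]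

/-- Splitting `q^{2(k+1)} - 1`: one of `q^{k+1} ± 1` is twice an odd number. -/
theorem factorization_pm (k : ℕ) :
    (IsSquare ((-1 : F) ^ (k + 1)) →
      (Fintype.card F ^ (k + 1) - 1).factorization 2 + 1 =
        (Fintype.card F ^ 2 - 1).factorization 2 + (k + 1).factorization 2 ∧
      (Fintype.card F ^ (k + 1) + 1).factorization 2 = 1) ∧
    (¬ IsSquare ((-1 : F) ^ (k + 1)) →
      (Fintype.card F ^ (k + 1) + 1).factorization 2 + 1 =
        (Fintype.card F ^ 2 - 1).factorization 2 + (k + 1).factorization 2 ∧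
      (Fintype.card F ^ (k + 1) - 1).factorization 2 = 1) := by
  set q := Fintype.card F with hq
  have h1 : 1 < q := Fintype.one_lt_card
  have hqk : 1 < q ^ (k + 1) := Nat.one_lt_pow (by omega) h1
  have hodd : q % 2 = 1 := Nat.odd_iff.1 (odd_card_field h2)
  have hsum : (q ^ (k + 1) - 1).factorization 2 + (q ^ (k + 1) + 1).factorization 2 =
      (q ^ 2 - 1).factorization 2 + (k + 1).factorization 2 := by
    rw [← CfsgLib.WreathAb.factorization_two_pow_sub_one (odd_card_field h2) h1 k.succ_ne_zero,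
      show q ^ (2 * (k + 1)) - 1 = (q ^ (k + 1) + 1) * (q ^ (k + 1) - 1) by
        rw [CfsgLib.ClassicalGroups.sq_pred_mul, ← pow_mul, mul_comm 2],
      Nat.factorization_mul (by omega) (by omega), Finsupp.add_apply, add_comm]
  have other : ∀ d : ℕ, d % 4 = 2 → d.factorization 2 = 1 := by
    intro d hd
    refine le_antisymm ?_ ?_
    · by_contra hlt
      have := (Nat.Prime.pow_dvd_iff_le_factorization Nat.prime_two (k := 2) (n := d) (by omega)).2 (by omega)
      omega
    · exact (Nat.Prime.pow_dvd_iff_le_factorization Nat.prime_two (k := 1) (by omega)).1 (by omega)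
  have hiff : IsSquare ((-1 : F) ^ (k + 1)) ↔ q ^ (k + 1) % 4 = 1 := by
    rcases Nat.even_or_odd (k + 1) with ⟨j, hj⟩ | ⟨j, hj⟩
    · refine ⟨fun _ => ?_, fun _ => ⟨(-1) ^ j, by rw [hj, pow_add]⟩⟩
      rw [hj, ← two_mul, pow_mul, Nat.pow_mod, Nat.pow_mod q 2 4]
      rcases (show q % 4 = 1 ∨ q % 4 = 3 by omega) with h | h <;> simp [h]
    · rw [hj, pow_succ, pow_mul, neg_one_sq, one_pow, one_mul, FiniteField.isSquare_neg_one_iff, ← hq,
        pow_succ, pow_mul, Nat.mul_mod, Nat.pow_mod, Nat.pow_mod q 2 4]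
      rcases (show q % 4 = 1 ∨ q % 4 = 3 by omega) with h | h <;> simp [h]
  constructor
  · intro hs
    have h4 := hiff.1 hs
    have h5 := other (q ^ (k + 1) + 1) (by omega)
    omega
  · intro hs
    have h4 : q ^ (k + 1) % 4 ≠ 1 := fun h => hs (hiff.2 h)
    have h6 : q ^ (k + 1) % 2 = 1 := by rw [Nat.pow_mod, hodd]; simp
    have h5 := other (q ^ (k + 1) - 1) (by omega)
    omega

theorem disc_ne_zero {ι : Type} [Fintype ι] [DecidableEq ι] {Q : QuadraticForm F (ι → F)}
    (hQ : Q.polarBilin.Nondegenerate) {n : ℕ} (e : ι ≃ Fin n) : disc Q e ≠ 0 :=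
  CfsgLib.QuadFin.gram_det_ne_zero _ (reindex_nondegenerate Q hQ e)

theorem disc_plus (m : ℕ) (e : Fin m ⊕ Fin m ≃ Fin (2 * m)) :
    IsSquare ((-1 : F) ^ m * disc (plusQ m F) e) := by
  classical
  have hL : ∃ L : Submodule F (Fin (2 * m) → F), Module.finrank F L = m ∧
      ∀ x ∈ L, reindex (plusQ m F) e x = 0 := by
    refine ⟨(coordLag m F ∅).map (LinearEquiv.funCongrLeft F F e).symm.toLinearMap, ?_, ?_⟩
    · rw [LinearEquiv.finrank_map_eq]; exact (coordLag_spec m ∅).1
    · rintro _ ⟨y, hy, rfl⟩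
      show plusQ m F ((LinearEquiv.funCongrLeft F F e) ((LinearEquiv.funCongrLeft F F e).symm y)) = 0
      rw [LinearEquiv.apply_symm_apply]
      exact (coordLag_spec m ∅).2 y hy
  obtain ⟨L, hLd, hLQ⟩ := hL
  rw [disc, CfsgLib.QuadFin.gram_eq_toMatrix]
  exact isSquare_disc_of_lagrangian _ (fun x y => polar_comm _ x y) (Pi.basisFun F _)
    (by rw [Module.finrank_fintype_fun_eq_card, Fintype.card_fin]) hLd
    (fun x hx y hy => ts_polar_eq_zero _ hLQ hx hy)

/-- The numbers attached to a form of even dimension. -/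
theorem even_case {ι : Type} [Fintype ι] [DecidableEq ι] {Q : QuadraticForm F (ι → F)}
    (hQ : Q.polarBilin.Nondegenerate) {k : ℕ} (e : ι ≃ Fin (2 * (k + 1)))
    (h : (IsSquare (disc Q e) ∧ 1 ≤ k ∧ (Nat.card (O Q)).factorization 2 =
        (k + 1) * (Fintype.card F ^ 2 - 1).factorization 2 + (k + 1).factorial.factorization 2) ∨
      (¬ IsSquare (disc Q e) ∧ 2 ≤ k ∧ (Nat.card (O Q)).factorization 2 =
        k * (Fintype.card F ^ 2 - 1).factorization 2 + k.factorial.factorization 2 + 2))
    (P : Sylow 2 (commutator (O Q))) : CfsgLib.WreathAb.ElemAb (P : Subgroup (commutator (O Q))) := by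
  have hsq2 : IsSquare ((2 : F) ^ (2 * (k + 1))) := ⟨2 ^ (k + 1), by rw [← pow_add]; ring_nf⟩
  rcases h with ⟨hd, hk, hN⟩ | ⟨-, hk, hN⟩
  · refine elemAb_of_disc h2 hQ (m := k + 1) (r := 0) (by omega) e Fin.elim0 (fun i => i.elim0) (by omega) ?_ ?_ P
    · simp only [Finset.univ_eq_empty, Finset.prod_empty, mul_one]
      exact hsq2.mul hd
    · rw [hN]; rfl
  · refine elemAb_of_disc h2 hQ (m := k) (r := 2) (by omega) e ![1, disc Q e]
      (fun i => by fin_cases i <;> simp [disc_ne_zero h2 hQ e]) hk ?_ hN P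
    rw [Fin.prod_univ_two]
    simp only [Matrix.cons_val_zero, Matrix.cons_val_one, one_mul, mul_assoc]
    exact hsq2.mul ⟨_, rfl⟩

theorem valuation_plus (k : ℕ) : (Nat.card (O (plusQ (k + 1) F))).factorization 2 =
    1 + (Fintype.card F ^ (k + 1) - 1).factorization 2 +
      (k * (Fintype.card F ^ 2 - 1).factorization 2 + k.factorial.factorization 2) := by
  have h1 : 1 < Fintype.card F := Fintype.one_lt_card
  have hqk : 1 < Fintype.card F ^ (k + 1) := Nat.one_lt_pow (by omega) h1
  have hp : (∏ i ∈ Finset.range k, (Fintype.card F ^ (2 * (i + 1)) - 1)) ≠ 0 :=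
    Finset.prod_ne_zero_iff.2 fun i _ => by
      have : 1 < Fintype.card F ^ (2 * (i + 1)) := Nat.one_lt_pow (by omega) h1
      omega
  rw [show Nat.card (O (plusQ (k + 1) F)) = Nat.card (Cfsg.isometryGroup F (Cfsg.quadFormPlus (k + 1) F)) by
    rw [← plusQ_coe], CfsgLib.ClassicalGroups.card_isometry_plus]
  rw [Nat.factorization_mul (mul_ne_zero (mul_ne_zero two_ne_zero (pow_ne_zero _ (by omega))) (by omega)) hp,
    Nat.factorization_mul (mul_ne_zero two_ne_zero (pow_ne_zero _ (by omega))) (by omega),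
    Nat.factorization_mul two_ne_zero (pow_ne_zero _ (by omega))]
  simp only [Finsupp.add_apply, factorization_q_pow h2, Nat.Prime.factorization_self Nat.prime_two,
    factorization_prod_sq h2]

theorem valuation_minus {a b : F}
    (hab : ∀ z₁ z₂ : F, z₁ ^ 2 + a * z₁ * z₂ + b * z₂ ^ 2 = 0 → z₁ = 0 ∧ z₂ = 0) (k : ℕ) :
    (Nat.card (O (minusQ k F a b))).factorization 2 =
    1 + (Fintype.card F ^ (k + 1) + 1).factorization 2 +
      (k * (Fintype.card F ^ 2 - 1).factorization 2 + k.factorial.factorization 2) := by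
  have h1 : 1 < Fintype.card F := Fintype.one_lt_card
  have hp : (∏ i ∈ Finset.range k, (Fintype.card F ^ (2 * (i + 1)) - 1)) ≠ 0 :=
    Finset.prod_ne_zero_iff.2 fun i _ => by
      have : 1 < Fintype.card F ^ (2 * (i + 1)) := Nat.one_lt_pow (by omega) h1
      omega
  rw [show Nat.card (O (minusQ k F a b)) = Nat.card (Cfsg.isometryGroup F (Cfsg.quadFormMinus k F a b)) by
    rw [← minusQ_coe], CfsgLib.ClassicalGroups.card_isometry_minus hab]
  rw [Nat.factorization_mul (mul_ne_zero (mul_ne_zero two_ne_zero (pow_ne_zero _ (by omega))) (by omega)) hp,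
    Nat.factorization_mul (mul_ne_zero two_ne_zero (pow_ne_zero _ (by omega))) (by omega),
    Nat.factorization_mul two_ne_zero (pow_ne_zero _ (by omega))]
  simp only [Finsupp.add_apply, factorization_q_pow h2, Nat.Prime.factorization_self Nat.prime_two,
    factorization_prod_sq h2]

theorem disc_plus_isSquare_iff (m : ℕ) (e : Fin m ⊕ Fin m ≃ Fin (2 * m)) :
    IsSquare (disc (plusQ m F) e) ↔ IsSquare ((-1 : F) ^ m) := by
  have h := disc_plus h2 m e
  have hne : disc (plusQ m F) e ≠ 0 := disc_ne_zero h2 (plusQ_nondegenerate m) e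
  have hne' : (-1 : F) ^ m ≠ 0 := pow_ne_zero _ (neg_ne_zero.2 one_ne_zero)
  constructor
  · intro hd
    have := h.div hd
    rwa [mul_div_assoc, div_self hne, mul_one] at this
  · intro hd
    have := h.div hd
    rwa [mul_comm, mul_div_assoc, div_self hne', mul_one] at this

theorem elemAb_plus (k : ℕ) (hk : Even (k + 1) ∨ 3 ≤ k) (P : Sylow 2 (commutator (O (plusQ (k + 1) F)))) :
    CfsgLib.WreathAb.ElemAb (P : Subgroup (commutator (O (plusQ (k + 1) F)))) := by
  let e : Fin (k + 1) ⊕ Fin (k + 1) ≃ Fin (2 * (k + 1)) :=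
    finSumFinEquiv.trans (finCongr (two_mul (k + 1)).symm)
  have hiff := disc_plus_isSquare_iff h2 (k + 1) e
  have hv := valuation_plus h2 k (F := F)
  have hfac : (k + 1).factorial.factorization 2 = (k + 1).factorization 2 + k.factorial.factorization 2 := by
    rw [Nat.factorial_succ, Nat.factorization_mul k.succ_ne_zero k.factorial_ne_zero, Finsupp.add_apply]
  refine even_case h2 (plusQ_nondegenerate _) e ?_ P
  by_cases hs : IsSquare ((-1 : F) ^ (k + 1))
  · have h := (factorization_pm h2 k).1 hs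
    refine Or.inl ⟨hiff.2 hs, ?_, ?_⟩
    · rcases hk with ⟨j, hj⟩ | hk <;> omega
    · rw [hv, hfac, Nat.succ_mul]; omega
  · have h := (factorization_pm h2 k).2 hs
    refine Or.inr ⟨fun hd => hs (hiff.1 hd), ?_, by rw [hv]; omega⟩
    rcases hk with ⟨j, hj⟩ | hk
    · exact absurd ⟨(-1) ^ j, by rw [hj, pow_add]⟩ hs
    · omega

theorem elemAb_minus {a b : F}
    (hab : ∀ z₁ z₂ : F, z₁ ^ 2 + a * z₁ * z₂ + b * z₂ ^ 2 = 0 → z₁ = 0 ∧ z₂ = 0) (k : ℕ) (hk : 2 ≤ k)
    (P : Sylow 2 (commutator (O (minusQ k F a b)))) :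
    CfsgLib.WreathAb.ElemAb (P : Subgroup (commutator (O (minusQ k F a b)))) := by
  let e : Fin (k + 1) ⊕ Fin (k + 1) ≃ Fin (2 * (k + 1)) :=
    finSumFinEquiv.trans (finCongr (two_mul (k + 1)).symm)
  let e' : (Fin k ⊕ Fin k) ⊕ Fin 2 ≃ Fin (2 * (k + 1)) :=
    Fintype.equivFinOfCardEq (by simp; omega)
  have hnd := minusQ_nondegenerate h2 hab (m := k)
  have hiff := disc_plus_isSquare_iff h2 (k + 1) e
  have hv := valuation_minus h2 hab k
  have hvp := valuation_plus h2 k (F := F)
  have hV := three_le_valuation h2 (F := F)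
  have hfac : (k + 1).factorial.factorization 2 = (k + 1).factorization 2 + k.factorial.factorization 2 := by
    rw [Nat.factorial_succ, Nat.factorization_mul k.succ_ne_zero k.factorial_ne_zero, Finsupp.add_apply]
  -- the two discriminants lie in different classes
  have hne : ¬ IsSquare (disc (minusQ k F a b) e' * disc (plusQ (k + 1) F) e) := by
    intro hs
    have heq : (Nat.card (O (minusQ k F a b))).factorization 2 =
        (Nat.card (O (plusQ (k + 1) F))).factorization 2 := by
      rw [card_eq_of_disc h2 (plusQ_nondegenerate (k + 1)) hnd e e' hs]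
    rw [hv, hvp] at heq
    by_cases hs' : IsSquare ((-1 : F) ^ (k + 1))
    · have h := (factorization_pm h2 k).1 hs'; omega
    · have h := (factorization_pm h2 k).2 hs'; omega
  refine even_case h2 hnd e' ?_ P
  by_cases hs : IsSquare ((-1 : F) ^ (k + 1))
  · have h := (factorization_pm h2 k).1 hs
    exact Or.inr ⟨fun hd => hne (hd.mul (hiff.2 hs)), hk, by rw [hv]; omega⟩
  · have h := (factorization_pm h2 k).2 hs
    refine Or.inl ⟨?_, by omega, by rw [hv, hfac, Nat.succ_mul]; omega⟩
    by_contra hd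
    refine hne ?_
    classical
    rw [← quadraticChar_one_iff_isSquare (mul_ne_zero (disc_ne_zero h2 hnd e')
        (disc_ne_zero h2 (plusQ_nondegenerate (k + 1)) e)), map_mul,
      quadraticChar_neg_one_iff_not_isSquare.2 hd,
      quadraticChar_neg_one_iff_not_isSquare.2 (fun h' => hs (hiff.1 h'))]
    norm_num

theorem elemAb_odd (m : ℕ) (hm : 2 ≤ m) (P : Sylow 2 (commutator (O (CfsgLib.POmega.oddQ m F)))) :
    CfsgLib.WreathAb.ElemAb (P : Subgroup (commutator (O (CfsgLib.POmega.oddQ m F)))) := by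
  let e : Unit ⊕ (Fin m ⊕ Fin m) ≃ Fin (2 * m + 1) := Fintype.equivFinOfCardEq (by simp; omega)
  have hnd := CfsgLib.POmega.oddQ_nondegenerate (F := F) h2 m
  refine elemAb_of_disc h2 hnd (m := m) (r := 1) rfl e ![2 ^ (2 * m + 1) * disc (CfsgLib.POmega.oddQ m F) e]
    (fun i => by fin_cases i; simp [disc_ne_zero h2 hnd e, pow_ne_zero _ h2]) hm ?_ ?_ P
  · refine ⟨2 ^ (2 * m + 1) * disc (CfsgLib.POmega.oddQ m F) e, ?_⟩
    rw [Fin.prod_univ_one]
    simp only [Matrix.cons_val_fin_one]
    ring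
  · have h1 : 1 < Fintype.card F := Fintype.one_lt_card
    have hp : (∏ i ∈ Finset.range m, (Fintype.card F ^ (2 * (i + 1)) - 1)) ≠ 0 :=
      Finset.prod_ne_zero_iff.2 fun i _ => by
        have : 1 < Fintype.card F ^ (2 * (i + 1)) := Nat.one_lt_pow (by omega) h1
        omega
    rw [show Nat.card (O (CfsgLib.POmega.oddQ m F)) = Nat.card (Cfsg.isometryGroup F (Cfsg.quadFormOdd m F)) by
      rw [← CfsgLib.POmega.oddQ_coe], CfsgLib.ClassicalGroups.card_isometry_odd h2,
      Nat.factorization_mul (mul_ne_zero two_ne_zero (pow_ne_zero _ (by omega))) hp,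
      Nat.factorization_mul two_ne_zero (pow_ne_zero _ (by omega))]
    simp only [Finsupp.add_apply, factorization_q_pow h2, Nat.Prime.factorization_self Nat.prime_two,
      factorization_prod_sq h2]
    omega

end standard

end CfsgLib.OmegaSylow76
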