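import Cfsg.Agent.Lib.Orth.Basic
import Cfsg.Agent.Lib.TwoGroups.WreathAb

/-!
# A Sylow 2-subgroup of the orthogonal group of `x² + y²`
-/

set_option autoImplicit false
set_option linter.unusedSectionVars false

namespace CfsgLib.OmegaSylow76

open Matrix QuadraticMap CfsgLib.Orth

variable (F : Type*) [Field F]

/-- The form `x² + y²`. -/
noncomputable def sq2 : QuadraticForm F (Fin 2 → F) := QuadraticMap.weightedSumSquares F fun _ : Fin 2 => (1 : F)

variable {F}

theorem sq2_apply (v : Fin 2 → F) : sq2 F v = v 0 * v 0 + v 1 * v 1 := by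
  simp [sq2, QuadraticMap.weightedSumSquares_apply, Fin.sum_univ_two]

/-- `g` is the rotation `(x, y)`. -/
def IsRot (g : O (sq2 F)) (x y : F) : Prop :=
  ∀ v, app g v = ![x * v 0 - y * v 1, y * v 0 + x * v 1]

/-- The rotation given by a point of the circle. -/
noncomputable def rot (x y : F) (h : x * x + y * y = 1) : O (sq2 F) :=
  mkO (Matrix.mulVecLin !![x, -y; y, x]) (Matrix.mulVecLin !![x, y; -y, x])
    (by rw [← Matrix.mulVecLin_mul, ← Matrix.mulVecLin_one]; congr 1
        ext i j; fin_cases i <;> fin_cases j <;>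
          simp [Matrix.mul_apply, Fin.sum_univ_two] <;> first | linear_combination h | ring)
    (by rw [← Matrix.mulVecLin_mul, ← Matrix.mulVecLin_one]; congr 1
        ext i j; fin_cases i <;> fin_cases j <;>
          simp [Matrix.mul_apply, Fin.sum_univ_two] <;> first | linear_combination h | ring)
    (fun v => by
      simp only [sq2_apply, Matrix.mulVecLin_apply, Matrix.mulVec, dotProduct, Fin.sum_univ_two]
      simp
      linear_combination (v 0 * v 0 + v 1 * v 1) * h)

theorem isRot_rot (x y : F) (h : x * x + y * y = 1) : IsRot (rot x y h) x y := by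
  intro v
  rw [rot, app_mkO]
  ext i; fin_cases i <;> simp [Matrix.mulVec, dotProduct, Fin.sum_univ_two] <;> ring

theorem IsRot.mul {g g' : O (sq2 F)} {x y x' y' : F} (h : IsRot g x y) (h' : IsRot g' x' y') :
    IsRot (g * g') (x * x' - y * y') (y * x' + x * y') := by
  intro v
  rw [app_mul, h' v, h]
  ext i; fin_cases i <;> simp <;> ring

theorem isRot_one : IsRot (1 : O (sq2 F)) 1 0 := by
  intro v
  ext i; fin_cases i <;> simp

theorem IsRot.eq_app {g : O (sq2 F)} {x y : F} (h : IsRot g x y) :
    x = app g ![1, 0] 0 ∧ y = app g ![1, 0] 1 := by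
  rw [h]; simp

theorem IsRot.sq_add {g : O (sq2 F)} {x y : F} (h : IsRot g x y) : x * x + y * y = 1 := by
  have := Q_app g ![1, 0]
  rw [h, sq2_apply, sq2_apply] at this
  simpa using this

theorem IsRot.ext {g g' : O (sq2 F)} {x y : F} (h : IsRot g x y) (h' : IsRot g' x y) : g = g' :=
  ext_app fun v => by rw [h, h']

theorem IsRot.inv {g : O (sq2 F)} {x y : F} (h : IsRot g x y) : IsRot g⁻¹ x (-y) := by
  have h' := isRot_rot x (-y) (by linear_combination h.sq_add)
  convert h' using 1
  refine inv_eq_of_mul_eq_one_right ((h.mul h').ext ?_)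
  convert (isRot_one (F := F)) using 1
  · linear_combination h.sq_add
  · ring

variable (F) in
/-- The rotations. -/
def circ : Subgroup (O (sq2 F)) where
  carrier := {g | ∃ x y, IsRot g x y}
  one_mem' := ⟨1, 0, isRot_one⟩
  mul_mem' := fun ⟨_, _, h⟩ ⟨_, _, h'⟩ => ⟨_, _, h.mul h'⟩
  inv_mem' := fun ⟨_, _, h⟩ => ⟨_, _, h.inv⟩

/-- The points of the circle. -/
noncomputable def circEquiv : {p : F × F // p.1 * p.1 + p.2 * p.2 = 1} ≃ circ F where
  toFun p := ⟨rot p.1.1 p.1.2 p.2, _, _, isRot_rot _ _ p.2⟩
  invFun g := ⟨(app g.1 ![1, 0] 0, app g.1 ![1, 0] 1), by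
    obtain ⟨x, y, h⟩ := g.2
    rw [← h.eq_app.1, ← h.eq_app.2]
    exact h.sq_add⟩
  left_inv p := by
    have h := (isRot_rot _ _ p.2).eq_app
    exact Subtype.ext (Prod.ext h.1.symm h.2.symm)
  right_inv g := by
    obtain ⟨x, y, h⟩ := g.2
    refine Subtype.ext ?_
    have hs : app g.1 ![1, 0] 0 * app g.1 ![1, 0] 0 + app g.1 ![1, 0] 1 * app g.1 ![1, 0] 1 = 1 := by
      rw [← h.eq_app.1, ← h.eq_app.2]; exact h.sq_add
    show rot (app g.1 ![1, 0] 0) (app g.1 ![1, 0] 1) hs = g.1
    refine IsRot.ext (g' := g.1) (isRot_rot _ _ _) ?_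
    convert h using 1
    · exact h.eq_app.1.symm
    · exact h.eq_app.2.symm

theorem circ_isCyclic [Finite F] (h20 : (2 : F) ≠ 0) : IsCyclic (circ F) := by
  let K := AlgebraicClosure F
  obtain ⟨i, hi⟩ : ∃ i : K, i * i = -1 := by
    obtain ⟨i, hi⟩ := IsAlgClosed.exists_pow_nat_eq (-1 : K) (n := 2) two_pos
    exact ⟨i, by rw [← pow_two]; exact hi⟩
  have : Finite (circ F) := Finite.of_equiv _ (circEquiv (F := F))
  let f : circ F →* K :=
    { toFun := fun g => algebraMap F K (app g.1 ![1, 0] 0) + i * algebraMap F K (app g.1 ![1, 0] 1)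
      map_one' := by simp
      map_mul' := fun g g' => by
        obtain ⟨x, y, h⟩ := g.2
        obtain ⟨x', y', h'⟩ := g'.2
        rw [Subgroup.coe_mul, ← (h.mul h').eq_app.1, ← (h.mul h').eq_app.2, ← h.eq_app.1,
          ← h.eq_app.2, ← h'.eq_app.1, ← h'.eq_app.2]
        simp only [map_sub, map_add, map_mul]
        linear_combination (-(algebraMap F K y * algebraMap F K y')) * hi }
  refine isCyclic_of_subgroup_isDomain f ?_
  intro g g' hgg'
  have h1 : f (g⁻¹ * g') = 1 := by rw [map_mul, ← hgg', ← map_mul, inv_mul_cancel, map_one]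
  obtain ⟨x, y, h⟩ := (g⁻¹ * g').2
  have hx : f (g⁻¹ * g') = algebraMap F K x + i * algebraMap F K y := by
    show algebraMap F K _ + i * algebraMap F K _ = _
    rw [← h.eq_app.1, ← h.eq_app.2]
  rw [hx] at h1
  have h2 : algebraMap F K x - i * algebraMap F K y = 1 := by
    have hs : algebraMap F K x * algebraMap F K x + algebraMap F K y * algebraMap F K y = 1 := by
      rw [← map_mul, ← map_mul, ← map_add, h.sq_add, map_one]
    calc algebraMap F K x - i * algebraMap F K y
        = (algebraMap F K x + i * algebraMap F K y) * (algebraMap F K x - i * algebraMap F K y) := by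
          rw [h1, one_mul]
      _ = 1 := by linear_combination hs + (-(algebraMap F K y * algebraMap F K y)) * hi
  have hK : (2 : K) ≠ 0 := by
    rw [← map_ofNat (algebraMap F K)]
    exact (map_ne_zero _).2 h20
  have hx1 : algebraMap F K x = algebraMap F K 1 := by
    rw [map_one]
    exact mul_left_cancel₀ hK (by linear_combination h1 + h2)
  have hi0 : i ≠ 0 := fun h0 => by rw [h0, mul_zero] at hi; simp at hi
  have hy0 : algebraMap F K y = algebraMap F K 0 := by
    rw [map_zero]
    refine (mul_eq_zero.1 (show i * algebraMap F K y = 0 from mul_left_cancel₀ hK ?_)).resolve_left hi0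
    linear_combination h1 - h2
  have hxx := (algebraMap F K).injective hx1
  have hyy := (algebraMap F K).injective hy0
  subst hxx hyy
  have : g⁻¹ * g' = 1 := Subtype.ext (h.ext isRot_one)
  exact inv_mul_eq_one.1 this

section count

variable [Fintype F] (h2 : (2 : F) ≠ 0)

include h2

theorem card_circ_add : Nat.card (circ F) + Nat.card {t : F // 1 + t * t = 0} = Fintype.card F + 1 := by
  classical
  have hm : ((-1 : F) * -1 + 0 * 0) = 1 := by ring
  let e : {p : {p : F × F // p.1 * p.1 + p.2 * p.2 = 1} // p ≠ ⟨(-1, 0), hm⟩} ≃ {t : F // 1 + t * t ≠ 0} :=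
    { toFun := fun p => ⟨p.1.1.2 / (1 + p.1.1.1), fun h => by
        obtain ⟨⟨⟨x, y⟩, hxy⟩, hne⟩ := p
        simp only at h hxy
        by_cases hx : 1 + x = 0
        · have hx1 : x = -1 := by linear_combination hx
          subst hx1
          have : y = 0 := mul_self_eq_zero.1 (by linear_combination hxy)
          subst this
          exact hne rfl
        · field_simp at h
          have : 2 * (1 + x) = 0 := by linear_combination h - hxy
          exact hx ((mul_eq_zero.1 this).resolve_left h2)⟩
      invFun := fun t => ⟨⟨((1 - t.1 * t.1) / (1 + t.1 * t.1), 2 * t.1 / (1 + t.1 * t.1)), by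
          have := t.2
          show (1 - t.1 * t.1) / (1 + t.1 * t.1) * ((1 - t.1 * t.1) / (1 + t.1 * t.1)) +
            2 * t.1 / (1 + t.1 * t.1) * (2 * t.1 / (1 + t.1 * t.1)) = 1
          rw [div_mul_div_comm, div_mul_div_comm, ← add_div, div_eq_one_iff_eq (mul_ne_zero this this)]
          ring⟩, fun h => by
          have h1 : (1 - t.1 * t.1) / (1 + t.1 * t.1) = -1 := congrArg (fun p => p.1.1) h
          rw [div_eq_iff t.2] at h1
          exact h2 (by linear_combination h1)⟩
      left_inv := fun p => by
        obtain ⟨⟨⟨x, y⟩, hxy⟩, hne⟩ := p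
        simp only at hxy
        have hx : 1 + x ≠ 0 := fun hx => by
          have hx1 : x = -1 := by linear_combination hx
          subst hx1
          have : y = 0 := mul_self_eq_zero.1 (by linear_combination hxy)
          subst this
          exact hne rfl
        have hne' : 1 + y / (1 + x) * (y / (1 + x)) = 2 / (1 + x) := by
          field_simp
          linear_combination hxy
        refine Subtype.ext (Subtype.ext (Prod.ext ?_ ?_))
        · show (1 - y / (1 + x) * (y / (1 + x))) / (1 + y / (1 + x) * (y / (1 + x))) = x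
          rw [hne']
          field_simp
          linear_combination -hxy
        · show 2 * (y / (1 + x)) / (1 + y / (1 + x) * (y / (1 + x))) = y
          rw [hne']
          field_simp
      right_inv := fun t => by
        have h0 := t.2
        have h1 : 1 + (1 - t.1 * t.1) / (1 + t.1 * t.1) = 2 / (1 + t.1 * t.1) := by
          rw [eq_div_iff h0, add_mul, one_mul, div_mul_cancel₀ _ h0]; ring
        refine Subtype.ext ?_
        show 2 * t.1 / (1 + t.1 * t.1) / (1 + (1 - t.1 * t.1) / (1 + t.1 * t.1)) = t.1
        rw [h1, div_div_div_cancel_right₀ h0, mul_comm, mul_div_assoc, div_self h2, mul_one] }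
  have e1 := Fintype.card_congr e
  rw [Fintype.card_subtype_compl, Fintype.card_subtype_compl, Fintype.card_subtype_eq] at e1
  have h3 : Fintype.card {t : F // 1 + t * t = 0} ≤ Fintype.card F := Fintype.card_subtype_le _
  have h4 : 0 < Fintype.card {p : F × F // p.1 * p.1 + p.2 * p.2 = 1} :=
    Fintype.card_pos_iff.2 ⟨⟨(-1, 0), hm⟩⟩
  rw [← Nat.card_congr (circEquiv (F := F)), Nat.card_eq_fintype_card, Nat.card_eq_fintype_card]
  omega

theorem four_dvd_card_circ : 4 ∣ Nat.card (circ F) ∧
    (Nat.card (circ F) = Fintype.card F + 1 ∨ Nat.card (circ F) + 1 = Fintype.card F) := by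
  classical
  have hodd : Fintype.card F % 2 = 1 :=
    FiniteField.odd_card_of_char_ne_two fun hc => h2 (by exact_mod_cast (ringChar.spec F 2).2 (by rw [hc]))
  have h := card_circ_add h2 (F := F)
  by_cases hs : IsSquare (-1 : F)
  · have h4 : Fintype.card F % 4 ≠ 3 := FiniteField.isSquare_neg_one_iff.1 hs
    obtain ⟨i, hi⟩ := hs
    have hi0 : i ≠ -i := fun e => by
      have : i = 0 := (mul_eq_zero.1 (show 2 * i = 0 by linear_combination e)).resolve_left h2
      rw [this, mul_zero] at hi
      simp at hi
    have hc : Nat.card {t : F // 1 + t * t = 0} = 2 := by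
      rw [Nat.card_eq_two_iff]
      refine ⟨⟨i, by linear_combination -hi⟩, ⟨-i, by linear_combination -hi⟩, by simpa using hi0, ?_⟩
      refine Set.eq_univ_of_forall fun ⟨t, ht⟩ => ?_
      rcases mul_self_eq_mul_self_iff.1 (show t * t = i * i by linear_combination ht + hi) with e | e
      · exact Or.inl (Subtype.ext e)
      · exact Or.inr (Subtype.ext e)
    omega
  · have h4 : ¬ Fintype.card F % 4 ≠ 3 := fun h4 => hs (FiniteField.isSquare_neg_one_iff.2 h4)
    have hc : Nat.card {t : F // 1 + t * t = 0} = 0 := by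
      have : IsEmpty {t : F // 1 + t * t = 0} := ⟨fun t => hs ⟨t.1, by linear_combination -t.2⟩⟩
      simp
    omega

theorem factorization_card_circ :
    (Nat.card (circ F)).factorization 2 + 1 = (Fintype.card F ^ 2 - 1).factorization 2 ∧
      2 ≤ (Nat.card (circ F)).factorization 2 := by
  obtain ⟨h4, hq⟩ := four_dvd_card_circ h2 (F := F)
  set q := Fintype.card F
  set c := Nat.card (circ F)
  have hq1 : 1 < q := Fintype.one_lt_card
  have hc0 : c ≠ 0 := by omega
  have h2c : 2 ≤ c.factorization 2 := (Nat.Prime.pow_dvd_iff_le_factorization Nat.prime_two hc0).1 h4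
  refine ⟨?_, h2c⟩
  have other : ∀ d : ℕ, d % 4 = 2 → d.factorization 2 = 1 := by
    intro d hd
    refine le_antisymm ?_ ?_
    · by_contra hlt
      have := (Nat.Prime.pow_dvd_iff_le_factorization Nat.prime_two (k := 2) (n := d) (by omega)).2 (by omega)
      omega
    · exact (Nat.Prime.pow_dvd_iff_le_factorization Nat.prime_two (k := 1) (by omega)).1 (by omega)
  rw [show q ^ 2 - 1 = (q + 1) * (q - 1) by simpa using Nat.sq_sub_sq q 1]
  rw [Nat.factorization_mul (by omega) (by omega), Finsupp.add_apply]
  obtain ⟨k, hk⟩ := h4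
  rcases hq with hq | hq
  · rw [other (q - 1) (by omega), ← hq]
  · rw [other (q + 1) (by omega), show q - 1 = c by omega, add_comm]

/-- Generators of a Sylow `2`-subgroup of the orthogonal group of the plane. -/
theorem exists_plane_sylow : ∃ (v : Fin 2 → Fin 2 → F) (D : Subgroup (O (sq2 F))),
    (∀ c, sq2 F (v c) ≠ 0) ∧
    D = Subgroup.closure (Set.range fun c => refl (sq2 F) (v c)) ∧
    Nat.card D = 2 ^ ((Fintype.card F ^ 2 - 1).factorization 2) := by
  classical
  have := circ_isCyclic h2 (F := F)
  have : Finite (circ F) := Finite.of_equiv _ (circEquiv (F := F))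
  obtain ⟨hv, ha⟩ := factorization_card_circ h2 (F := F)
  set a := (Nat.card (circ F)).factorization 2
  obtain ⟨g, hg⟩ := IsCyclic.exists_generator (α := circ F)
  have hog : orderOf g = Nat.card (circ F) := orderOf_eq_card_of_forall_mem_zpowers hg
  set ρ := g ^ (Nat.card (circ F) / 2 ^ a)
  have hdvd : 2 ^ a ∣ Nat.card (circ F) := Nat.ordProj_dvd _ _
  have hρ : orderOf ρ = 2 ^ a := by
    have h0 : Nat.card (circ F) / 2 ^ a ≠ 0 := by
      rw [Ne, Nat.div_eq_zero_iff]
      have := Nat.le_of_dvd Nat.card_pos hdvd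
      simp only [pow_eq_zero_iff', OfNat.ofNat_ne_zero, false_and, false_or]
      omega
    rw [orderOf_pow_of_dvd h0 (by rw [hog]; exact Nat.div_dvd_of_dvd hdvd), hog,
      Nat.div_div_self hdvd Nat.card_pos.ne']
  obtain ⟨x, y, hρr⟩ := ρ.2
  have hx : 1 + x ≠ 0 := by
    intro hx
    have hx1 : x = -1 := by linear_combination hx
    subst hx1
    have hy : y = 0 := mul_self_eq_zero.1 (by linear_combination hρr.sq_add)
    subst hy
    have hsq : ρ ^ 2 = 1 := by
      refine Subtype.ext ((?_ : IsRot _ _ _).ext isRot_one)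
      rw [pow_two, Subgroup.coe_mul]
      convert hρr.mul hρr using 1 <;> ring
    have := orderOf_dvd_of_pow_eq_one hsq
    rw [hρ] at this
    have := Nat.le_of_dvd two_pos this
    have : 2 ^ 2 ≤ 2 ^ a := Nat.pow_le_pow_right two_pos ha
    omega
  -- the two reflections
  set e : Fin 2 → F := ![1, 0]
  set w : Fin 2 → F := ![1 + x, y]
  have hQw : sq2 F w = 2 * (1 + x) := by
    rw [sq2_apply]; simp [w]; linear_combination hρr.sq_add
  have hQe : sq2 F e = 1 := by rw [sq2_apply]; simp [e]
  set r := refl (sq2 F) e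
  set t := refl (sq2 F) w
  have appr : ∀ v, app r v = ![-v 0, v 1] := by
    intro v
    rw [app_refl, hQe, QuadraticMap.polar, sq2_apply, sq2_apply, sq2_apply]
    ext i; fin_cases i <;> simp [e] <;> ring
  have htr : t * r = (ρ : O (sq2 F)) := by
    refine ext_app fun v => ?_
    rw [app_mul, appr, hρr, app_refl, hQw, QuadraticMap.polar, sq2_apply, sq2_apply, sq2_apply]
    ext i; fin_cases i <;> simp [w] <;> field_simp
    · ring
    · linear_combination (-2 * v 1) * hρr.sq_add
  have hrr : r * r = 1 := refl_mul_self e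
  have hrc : r ∉ circ F := by
    rintro ⟨x', y', h⟩
    have h1 := h ![1, 0]
    have h3 := h ![0, 1]
    rw [appr] at h1 h3
    have ha' := congrFun h1 0
    have hb' := congrFun h3 1
    simp at ha' hb'
    exact h2 (by linear_combination hb' - ha')
  set P := Subgroup.zpowers (ρ : O (sq2 F))
  have hPc : P ≤ circ F := Subgroup.zpowers_le.2 ρ.2
  have hconj : ∀ g ∈ circ F, r * g * r = g⁻¹ := by
    rintro g ⟨x', y', h⟩
    refine ext_app fun v => ?_
    rw [app_mul, app_mul, appr, h, h.inv, appr]
    ext i; fin_cases i <;> simp <;> ring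
  let D : Subgroup (O (sq2 F)) :=
    { carrier := {g | g ∈ P ∨ g * r ∈ P}
      one_mem' := Or.inl (one_mem P)
      mul_mem' := by
        intro g g' hg hg'
        rcases hg with hg | hg <;> rcases hg' with hg' | hg'
        · exact Or.inl (mul_mem hg hg')
        · exact Or.inr (by rw [mul_assoc]; exact mul_mem hg hg')
        · right
          rw [show g * g' * r = (g * r) * (r * g' * r) by
            rw [show (g * r) * (r * g' * r) = g * (r * r) * g' * r by group, hrr, mul_one],
            hconj g' (hPc hg')]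
          exact mul_mem hg (inv_mem hg')
        · left
          rw [show g * g' = (g * r) * (r * (g' * r) * r) by
            rw [show (g * r) * (r * (g' * r) * r) = g * (r * r) * g' * (r * r) by group, hrr, mul_one,
              mul_one],
            hconj _ (hPc hg')]
          exact mul_mem hg (inv_mem hg')
      inv_mem' := by
        intro g hg
        rcases hg with hg | hg
        · exact Or.inl (inv_mem hg)
        · right
          have h' := hconj _ (hPc (inv_mem hg))
          rw [inv_inv] at h'
          have hri : r⁻¹ = r := inv_eq_of_mul_eq_one_left hrr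
          rw [_root_.mul_inv_rev, hri] at h'
          rw [show g⁻¹ * r = r * (r * g⁻¹) * r by rw [← mul_assoc r r, hrr, one_mul], h']
          exact hg }
  have hrD : r ∈ D := Or.inr (by rw [hrr]; exact one_mem P)
  have htD : t ∈ D := Or.inr (by rw [htr]; exact Subgroup.mem_zpowers _)
  refine ⟨![e, w], D, ?_, ?_, ?_⟩
  · intro c
    fin_cases c
    · show sq2 F e ≠ 0; rw [hQe]; exact one_ne_zero
    · show sq2 F w ≠ 0; rw [hQw]; exact mul_ne_zero h2 hx
  · apply le_antisymm
    · have hr' : r ∈ Subgroup.closure (Set.range fun c => refl (sq2 F) (![e, w] c)) :=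
        Subgroup.subset_closure ⟨0, rfl⟩
      have ht' : t ∈ Subgroup.closure (Set.range fun c => refl (sq2 F) (![e, w] c)) :=
        Subgroup.subset_closure ⟨1, rfl⟩
      have hP : P ≤ Subgroup.closure (Set.range fun c => refl (sq2 F) (![e, w] c)) := by
        rw [Subgroup.zpowers_le, ← htr]
        exact mul_mem ht' hr'
      rintro g (hg | hg)
      · exact hP hg
      · rw [show g = g * r * r by rw [mul_assoc, hrr, mul_one]]
        exact mul_mem (hP hg) hr'
    · rw [Subgroup.closure_le]
      rintro _ ⟨c, rfl⟩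
      fin_cases c
      · exact hrD
      · exact htD
  · have eP : Nat.card P = 2 ^ a := by
      rw [Nat.card_zpowers, ← hρ]
      exact orderOf_injective (circ F).subtype Subtype.val_injective ρ
    have hbij : Function.Bijective (fun p : P × Bool =>
        (⟨if p.2 then (p.1 : O (sq2 F)) * r else p.1, by
          by_cases hb : p.2
          · rw [if_pos hb]; right; rw [mul_assoc, hrr, mul_one]; exact p.1.2
          · rw [if_neg hb]; exact Or.inl p.1.2⟩ : D)) := by
      constructor
      · rintro ⟨p, b⟩ ⟨p', b'⟩ h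
        have h' := congrArg Subtype.val h
        cases b <;> cases b' <;> simp at h'
        · exact Prod.ext h' rfl
        · refine absurd ?_ hrc
          rw [show r = (p' : O (sq2 F))⁻¹ * p by rw [h']; group]
          exact hPc (mul_mem (inv_mem p'.2) p.2)
        · refine absurd ?_ hrc
          rw [show r = (p : O (sq2 F))⁻¹ * p' by rw [← h']; group]
          exact hPc (mul_mem (inv_mem p.2) p'.2)
        · exact Prod.ext h' rfl
      · rintro ⟨g, hg | hg⟩
        · exact ⟨(⟨g, hg⟩, false), Subtype.ext (by simp)⟩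
        · exact ⟨(⟨g * r, hg⟩, true), Subtype.ext (by simp [mul_assoc, hrr])⟩
    rw [← Nat.card_congr (Equiv.ofBijective _ hbij), Nat.card_prod, eP, Nat.card_eq_fintype_card,
      Fintype.card_bool, ← hv, pow_succ]

end count

end CfsgLib.OmegaSylow76
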