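import Mathlib

/-!
# Kernels generated by involutions

A group generated by two kinds of involutions in several mutually commuting blocks: the kernel of a
sign character with values in two independent classes is generated by its involutions.
-/

set_option autoImplicit false

namespace CfsgLib.OmegaSylow76

variable {G A : Type*} [Group G] [CommGroup A] {m : ℕ} {κ : Type*}

theorem inf_ker_le_closure (χ : G →* A) (R : Fin m → Fin 2 → G) (E : κ → G) (T : Set G)
    (hm : 2 ≤ m)
    (hR : ∀ i c, R i c * R i c = 1) (hE : ∀ k, E k * E k = 1) (hT : ∀ t ∈ T, t * t = 1)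
    (hTχ : ∀ t ∈ T, χ t = 1)
    (hblock : ∀ i j c, χ (R i c) = χ (R j c))
    (hRR : ∀ i j c c', i ≠ j → Commute (R i c) (R j c'))
    (hRE : ∀ i c k, Commute (R i c) (E k)) (hEE : ∀ k l, Commute (E k) (E l))
    {a b : A} (ha : a ≠ 1) (hb : b ≠ 1) (hab : a * b ≠ 1)
    (hRv : ∀ i c, χ (R i c) = a ∨ χ (R i c) = b) (hEv : ∀ k, χ (E k) = a ∨ χ (E k) = b)
    (H : Subgroup G)
    (hH : H = Subgroup.closure ((Set.range fun p : Fin m × Fin 2 => R p.1 p.2) ∪ Set.range E ∪ T)) :
    H ⊓ χ.ker ≤ Subgroup.closure {x : G | x ∈ H ∧ x * x = 1 ∧ χ x = 1} := by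
  classical
  -- work inside `H`
  let J : Set H := {x | x * x = 1 ∧ χ (x : G) = 1}
  let N : Subgroup H := Subgroup.closure J
  have : N.Normal := by
    refine ⟨fun n hn g => ?_⟩
    induction hn using Subgroup.closure_induction with
    | mem x hx =>
      refine Subgroup.subset_closure ⟨?_, ?_⟩
      · rw [show g * x * g⁻¹ * (g * x * g⁻¹) = g * (x * x) * g⁻¹ by group, hx.1, mul_one,
          mul_inv_cancel]
      · show χ ((g : G) * x * (g : G)⁻¹) = 1
        rw [map_mul, map_mul, map_inv, hx.2, mul_one, mul_inv_cancel]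
    | one => simp
    | mul x y _ _ hx hy => rw [← conj_mul]; exact N.mul_mem hx hy
    | inv x _ hx => rw [← conj_inv]; exact N.inv_mem hx
  let π := QuotientGroup.mk' N
  have memR : ∀ i c, R i c ∈ H := fun i c => hH ▸ Subgroup.subset_closure (Or.inl (Or.inl ⟨(i, c), rfl⟩))
  have memE : ∀ k, E k ∈ H := fun k => hH ▸ Subgroup.subset_closure (Or.inl (Or.inr ⟨k, rfl⟩))
  have same : ∀ g h : H, g * g = 1 → h * h = 1 → Commute g h → χ (g : G) = χ (h : G) → π g = π h := by
    intro g h hg hh hc he
    have hmem : g * h ∈ N := by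
      refine Subgroup.subset_closure ⟨?_, ?_⟩
      · rw [show g * h * (g * h) = g * (h * g) * h by group, ← hc.eq,
          show g * (g * h) * h = (g * g) * (h * h) by group, hg, hh, mul_one]
      · rw [Subgroup.coe_mul, map_mul, he, ← map_mul,
          show ((h : G)) * h = 1 from congrArg Subtype.val hh, map_one]
    have h1 : π (g * h) = 1 := (QuotientGroup.eq_one_iff _).2 hmem
    rw [map_mul] at h1
    have h2 : π h * π h = 1 := by rw [← map_mul, hh, map_one]
    exact (eq_inv_of_mul_eq_one_left h1).trans (inv_eq_of_mul_eq_one_left h2)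
  -- the generators of reflection type
  let gen : (Fin m × Fin 2) ⊕ κ → H := Sum.elim (fun p => ⟨R p.1 p.2, memR _ _⟩) fun k => ⟨E k, memE k⟩
  have gen_sq : ∀ x, gen x * gen x = 1 := by
    rintro (⟨i, c⟩ | k)
    · exact Subtype.ext (hR i c)
    · exact Subtype.ext (hE k)
  have gen_val : ∀ x, χ (gen x : G) = a ∨ χ (gen x : G) = b := by
    rintro (⟨i, c⟩ | k)
    · exact hRv i c
    · exact hEv k
  -- another copy of a generator commuting with a given one
  have copy : ∀ x y, ∃ y', χ (gen y' : G) = χ (gen y : G) ∧ Commute (gen x) (gen y') ∧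
      π (gen y') = π (gen y) := by
    intro x y
    rcases x with ⟨i, c⟩ | k <;> rcases y with ⟨j, c'⟩ | l
    · by_cases hij : i = j
      · subst hij
        have : Nontrivial (Fin m) := Fin.nontrivial_iff_two_le.2 hm
        obtain ⟨j, hj⟩ := exists_ne i
        refine ⟨.inl (j, c'), hblock j i c', Subtype.ext (hRR i j c c' hj.symm), ?_⟩
        exact same _ _ (gen_sq _) (gen_sq _) (Subtype.ext (hRR j i c' c' hj)) (hblock j i c')
      · exact ⟨.inl (j, c'), rfl, Subtype.ext (hRR i j c c' hij), rfl⟩
    · exact ⟨.inr l, rfl, Subtype.ext (hRE i c l), rfl⟩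
    · exact ⟨.inl (j, c'), rfl, Subtype.ext (hRE j c' k).symm, rfl⟩
    · exact ⟨.inr l, rfl, Subtype.ext (hEE k l), rfl⟩
  have eqπ : ∀ x y, χ (gen x : G) = χ (gen y : G) → π (gen x) = π (gen y) := by
    intro x y h
    obtain ⟨y', h1, h2, h3⟩ := copy x y
    exact (same _ _ (gen_sq _) (gen_sq _) h2 (h.trans h1.symm)).trans h3
  have commπ : ∀ x y, Commute (π (gen x)) (π (gen y)) := by
    intro x y
    obtain ⟨y', -, h2, h3⟩ := copy x y
    rw [← h3]
    exact h2.map π
  -- representatives of the two classes
  let rep : A → H := fun v => if h : ∃ x, χ (gen x : G) = v then gen h.choose else 1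
  have rep_eq : ∀ x, π (gen x) = π (rep (χ (gen x : G))) := by
    intro x
    have h : ∃ x', χ (gen x' : G) = χ (gen x : G) := ⟨x, rfl⟩
    simp only [rep, dif_pos h]
    exact eqπ _ _ h.choose_spec.symm
  have rep_sq : ∀ v, rep v * rep v = 1 := by
    intro v
    simp only [rep]
    split
    · exact gen_sq _
    · exact mul_one _
  have rep_comm : ∀ v w, Commute (π (rep v)) (π (rep w)) := by
    intro v w
    simp only [rep]
    split
    · split
      · exact commπ _ _
      · rw [map_one]; exact Commute.one_right _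
    · rw [map_one]; exact Commute.one_left _
  have rep_val : ∀ v, rep v = 1 ∨ χ (rep v : G) = v := by
    intro v
    simp only [rep]
    split
    next h => exact Or.inr h.choose_spec
    next h => exact Or.inl rfl
  -- every element is congruent to a product of the two representatives
  let S : Set (H ⧸ N) := {1, π (rep a), π (rep b), π (rep a * rep b)}
  have key : ∀ x : H, π x ∈ S := by
    have step : ∀ v, v = a ∨ v = b → ∀ s ∈ S, π (rep v) * s ∈ S := by
      intro v hv s hs
      have sqa : π (rep a) * π (rep a) = 1 := by rw [← map_mul, rep_sq, map_one]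
      have sqb : π (rep b) * π (rep b) = 1 := by rw [← map_mul, rep_sq, map_one]
      rcases hs with rfl | rfl | rfl | rfl
      · rcases hv with rfl | rfl <;> simp [S]
      · rcases hv with rfl | rfl
        · simp [S, sqa]
        · simp [S, map_mul, (rep_comm _ _).eq]
      · rcases hv with rfl | rfl
        · simp [S, map_mul]
        · simp [S, sqb]
      · rcases hv with rfl | rfl
        · simp [S, map_mul, ← mul_assoc, sqa]
        · simp [S, map_mul, (rep_comm a v).eq, ← mul_assoc, sqb]
    have hgen : ∀ g : H, (g : G) ∈ (Set.range fun p : Fin m × Fin 2 => R p.1 p.2) ∪ Set.range E ∪ T →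
        ∀ s ∈ S, π g * s ∈ S := by
      intro g hg s hs
      have refl_case : ∀ x, g = gen x → π g * s ∈ S := by
        intro x hx
        rw [hx, rep_eq x]
        exact step _ (gen_val x) s hs
      rcases hg with (⟨p, hp⟩ | ⟨k, hk⟩) | hg
      · exact refl_case (.inl p) (Subtype.ext hp.symm)
      · exact refl_case (.inr k) (Subtype.ext hk.symm)
      · have : π g = 1 := (QuotientGroup.eq_one_iff _).2
          (Subgroup.subset_closure ⟨Subtype.ext (hT _ hg), hTχ _ hg⟩)
        rwa [this, one_mul]
    intro x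
    suffices h : ∀ g, g ∈ Subgroup.closure ((Set.range fun p : Fin m × Fin 2 => R p.1 p.2) ∪
        Set.range E ∪ T) → ∀ hg : g ∈ H, π ⟨g, hg⟩ ∈ S from
      h _ (by rw [← hH]; exact x.2) x.2
    intro g hg
    induction hg using Subgroup.closure_induction_left with
    | one => intro _; exact Or.inl (map_one π)
    | mul_left g hg y hy ih =>
      intro _
      have hgH : g ∈ H := hH ▸ Subgroup.subset_closure hg
      have hyH : y ∈ H := hH ▸ hy
      exact (map_mul π ⟨g, hgH⟩ ⟨y, hyH⟩).symm ▸ hgen ⟨g, hgH⟩ hg _ (ih hyH)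
    | inv_mul_cancel g hg y hy ih =>
      intro _
      have hgH : g ∈ H := hH ▸ Subgroup.subset_closure hg
      have hyH : y ∈ H := hH ▸ hy
      have hsq : g⁻¹ = g := by
        refine inv_eq_of_mul_eq_one_left ?_
        rcases hg with (⟨p, rfl⟩ | ⟨k, rfl⟩) | hg
        · exact hR _ _
        · exact hE k
        · exact hT _ hg
      have h2 := hgen ⟨g, hgH⟩ hg _ (ih hyH)
      rw [← map_mul] at h2
      convert h2 using 2
      exact Subtype.ext (by show g⁻¹ * y = g * y; rw [hsq])
  -- the sign character separates them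
  rintro x ⟨hxH, hxχ⟩
  have hχ : χ x = 1 := hxχ
  have hN : (⟨x, hxH⟩ : H) ∈ N := by
    rw [← QuotientGroup.eq_one_iff]
    show π ⟨x, hxH⟩ = 1
    have eval : ∀ y : H, π ⟨x, hxH⟩ = π y → χ (y : G) = 1 := by
      intro y hy
      have h1 : (⟨x, hxH⟩ : H)⁻¹ * y ∈ N := QuotientGroup.eq.1 hy
      have hle : N ≤ (χ.comp H.subtype).ker := (Subgroup.closure_le _).2 fun z hz => hz.2
      have h2 : χ (x⁻¹ * (y : G)) = 1 := hle h1
      rwa [map_mul, map_inv, hχ, inv_one, one_mul] at h2
    rcases key ⟨x, hxH⟩ with h | h | h | h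
    · exact h
    · rcases rep_val a with e | e
      · rw [h, e, map_one]
      · exact absurd (e.symm.trans (eval _ h)) ha
    · rcases rep_val b with e | e
      · rw [h, e, map_one]
      · exact absurd (e.symm.trans (eval _ h)) hb
    · have h' := eval _ h
      rw [Subgroup.coe_mul, map_mul] at h'
      rcases rep_val a with e | e
      · rcases rep_val b with e' | e'
        · rw [h, e, e', mul_one, map_one]
        · exact absurd (by rw [e, Subgroup.coe_one, map_one, one_mul] at h'; exact e'.symm.trans h') hb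
      · rcases rep_val b with e' | e'
        · exact absurd (by rw [e', Subgroup.coe_one, map_one, mul_one] at h'; exact e.symm.trans h') ha
        · exact absurd (by rw [e, e'] at h'; exact h') hab
  have hmap : N.map H.subtype ≤ Subgroup.closure {x : G | x ∈ H ∧ x * x = 1 ∧ χ x = 1} := by
    rw [MonoidHom.map_closure]
    refine Subgroup.closure_mono ?_
    rintro _ ⟨z, hz, rfl⟩
    exact ⟨z.2, congrArg Subtype.val hz.1, hz.2⟩
  exact hmap (Subgroup.mem_map_of_mem _ hN)

end CfsgLib.OmegaSylow76
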