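import Cfsg.Agent.Lib.Struct76.OrthSylow.Gen
import Cfsg.Agent.Lib.Struct76.OrthSylow.Circle
import Cfsg.Agent.Lib.Orth.Omega
import Cfsg.Agent.S4623

/-!
# A Sylow 2-subgroup of `Ω` for a diagonal form with many blocks `x² + y²`
-/

set_option autoImplicit false
set_option linter.unusedSectionVars false

namespace CfsgLib.OmegaSylow76

open Matrix QuadraticMap CfsgLib.Orth

variable {F : Type*} [Field F] {m r : ℕ} (c : Fin r → F)

/-- The index type of the model. -/
abbrev Ix (m r : ℕ) := (Fin m × Fin 2) ⊕ Fin r

/-- The weights of the model. -/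
def wt : Ix m r → F := Sum.elim (fun _ => 1) c

/-- The model form `Σ (x_i² + y_i²) + Σ c_k z_k²`. -/
noncomputable def model (m : ℕ) (c : Fin r → F) : QuadraticForm F (Ix m r → F) :=
  QuadraticMap.weightedSumSquares F (wt c)

theorem model_apply (x : Ix m r → F) :
    model m c x = (∑ i, sq2 F (fun l => x (.inl (i, l)))) + ∑ k, c k * (x (.inr k) * x (.inr k)) := by
  rw [model, QuadraticMap.weightedSumSquares_apply, Fintype.sum_sum_type, Fintype.sum_prod_type]
  congr 1

theorem polar_model (x y : Ix m r → F) :
    polar (model m c) x y = ∑ i, wt c i * (2 * (x i * y i)) := by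
  simp only [model, QuadraticMap.polar, QuadraticMap.weightedSumSquares_apply, Pi.add_apply,
    smul_eq_mul, ← Finset.sum_sub_distrib]
  exact Finset.sum_congr rfl fun i _ => by ring

theorem model_nondegenerate (h2 : (2 : F) ≠ 0) (hc : ∀ k, c k ≠ 0) :
    (model m c).polarBilin.Nondegenerate := by
  have key : ∀ x, (∀ y, polar (model m c) x y = 0) → x = 0 := fun x hx => funext fun j => by
    have := hx (Pi.single j 1)
    simp [polar_model, Pi.single_apply, h2] at this
    rcases j with j | j
    · simpa [wt] using this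
    · simpa [wt, hc j] using this
  exact ⟨key, fun y hy => key y fun x => by rw [polar_comm]; exact hy x⟩

/-- The block map of a tuple. -/
noncomputable def baseMap (p : (Fin m → O (sq2 F)) × (Fin r → ℤˣ)) : (Ix m r → F) →ₗ[F] (Ix m r → F) where
  toFun x := Sum.elim (fun q => app (p.1 q.1) (fun l => x (.inl (q.1, l))) q.2)
    fun k => ((p.2 k : ℤ) : F) * x (.inr k)
  map_add' x y := by
    funext q
    rcases q with q | k
    · show app (p.1 q.1) ((fun l => x (.inl (q.1, l))) + fun l => y (.inl (q.1, l))) q.2 = _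
      rw [map_add]; rfl
    · simp [mul_add]
  map_smul' t x := by
    funext q
    rcases q with q | k
    · show app (p.1 q.1) (t • fun l => x (.inl (q.1, l))) q.2 = _
      rw [map_smul]; rfl
    · simp [mul_left_comm]

theorem baseMap_inl (p : (Fin m → O (sq2 F)) × (Fin r → ℤˣ)) (x : Ix m r → F) (i : Fin m) :
    (fun l => baseMap p x (.inl (i, l))) = app (p.1 i) fun l => x (.inl (i, l)) := rfl

theorem baseMap_inr (p : (Fin m → O (sq2 F)) × (Fin r → ℤˣ)) (x : Ix m r → F) (k : Fin r) :
    baseMap p x (.inr k) = ((p.2 k : ℤ) : F) * x (.inr k) := rfl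

theorem ext_blocks {x y : Ix m r → F}
    (h₁ : ∀ i, (fun l => x (.inl (i, l))) = fun l => y (.inl (i, l)))
    (h₂ : ∀ k, x (.inr k) = y (.inr k)) : x = y := by
  funext q
  rcases q with ⟨i, l⟩ | k
  · exact congrFun (h₁ i) l
  · exact h₂ k

theorem baseMap_mul (p q : (Fin m → O (sq2 F)) × (Fin r → ℤˣ)) :
    (baseMap p).comp (baseMap q) = baseMap (p * q) := by
  refine LinearMap.ext fun x => ext_blocks (fun i => ?_) fun k => ?_
  · rw [LinearMap.comp_apply, baseMap_inl, baseMap_inl, baseMap_inl, ← app_mul]; rfl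
  · simp only [LinearMap.comp_apply, baseMap_inr, Prod.snd_mul, Pi.mul_apply, Units.val_mul,
      Int.cast_mul, mul_assoc]

theorem baseMap_one : baseMap (1 : (Fin m → O (sq2 F)) × (Fin r → ℤˣ)) = LinearMap.id := by
  refine LinearMap.ext fun x => ext_blocks (fun i => ?_) fun k => ?_
  · rw [baseMap_inl]; simp
  · simp [baseMap_inr]

/-- The base group. -/
noncomputable def baseHom (m : ℕ) (c : Fin r → F) : (Fin m → O (sq2 F)) × (Fin r → ℤˣ) →* O (model m c) where
  toFun p := mkO (baseMap p) (baseMap p⁻¹) (by rw [baseMap_mul, mul_inv_cancel, baseMap_one])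
    (by rw [baseMap_mul, inv_mul_cancel, baseMap_one]) (fun x => by
      rw [model_apply, model_apply]
      congr 1
      · exact Finset.sum_congr rfl fun i _ => by rw [baseMap_inl, Q_app]
      · refine Finset.sum_congr rfl fun k _ => ?_
        rw [baseMap_inr]
        rcases Int.units_eq_one_or (p.2 k) with h | h <;> simp [h])
  map_one' := ext_app fun x => by rw [app_mkO, baseMap_one, app_one]; rfl
  map_mul' p q := ext_app fun x => by
    rw [app_mul, app_mkO, app_mkO, app_mkO, ← baseMap_mul, LinearMap.comp_apply]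

theorem app_baseHom (p : (Fin m → O (sq2 F)) × (Fin r → ℤˣ)) (x : Ix m r → F) :
    app (baseHom m c p) x = baseMap p x := by simp [baseHom, app_mkO]

/-- Permutations of the blocks. -/
noncomputable def topHom (m : ℕ) (c : Fin r → F) : Equiv.Perm (Fin m) →* O (model m c) where
  toFun π := mkO
    (LinearMap.funLeft F F (Sum.map (fun q : Fin m × Fin 2 => (π.symm q.1, q.2)) (id : Fin r → Fin r)))
    (LinearMap.funLeft F F (Sum.map (fun q : Fin m × Fin 2 => (π q.1, q.2)) (id : Fin r → Fin r)))
    (by refine LinearMap.ext fun x => funext fun q => ?_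
        rcases q with q | q <;> simp [LinearMap.funLeft_apply])
    (by refine LinearMap.ext fun x => funext fun q => ?_
        rcases q with q | q <;> simp [LinearMap.funLeft_apply])
    (fun x => by
      rw [model_apply, model_apply]
      congr 1
      exact Fintype.sum_equiv π.symm _ _ fun i => rfl)
  map_one' := ext_app fun x => by
    rw [app_mkO, app_one]
    funext q
    rcases q with q | q <;> simp [LinearMap.funLeft_apply, Equiv.Perm.one_def]
  map_mul' π τ := ext_app fun x => by
    rw [app_mul, app_mkO, app_mkO, app_mkO]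
    funext q
    rcases q with q | q <;> simp [LinearMap.funLeft_apply, Equiv.Perm.mul_def]

theorem app_topHom_inl (π : Equiv.Perm (Fin m)) (x : Ix m r → F) (i : Fin m) :
    (fun l => app (topHom m c π) x (.inl (i, l))) = fun l => x (.inl (π.symm i, l)) := by
  funext l
  simp [topHom, app_mkO, LinearMap.funLeft_apply]

theorem app_topHom_inr (π : Equiv.Perm (Fin m)) (x : Ix m r → F) (k : Fin r) :
    app (topHom m c π) x (.inr k) = x (.inr k) := by
  simp [topHom, app_mkO, LinearMap.funLeft_apply]

theorem top_base (π : Equiv.Perm (Fin m)) (p : (Fin m → O (sq2 F)) × (Fin r → ℤˣ)) :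
    topHom m c π * baseHom m c p = baseHom m c (p.1 ∘ ⇑π.symm, p.2) * topHom m c π := by
  refine ext_app fun x => ext_blocks (fun i => ?_) fun k => ?_
  · rw [app_mul, app_mul, app_topHom_inl, app_baseHom, app_baseHom, baseMap_inl, baseMap_inl,
      app_topHom_inl]
    rfl
  · rw [app_mul, app_mul, app_topHom_inr, app_baseHom, app_baseHom, baseMap_inr, baseMap_inr,
      app_topHom_inr]

/-- A vector of one block. -/
def emb (i : Fin m) (v : Fin 2 → F) : Ix m r → F :=
  Sum.elim (fun q => if q.1 = i then v q.2 else 0) fun _ => 0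

theorem polar_emb (x : Ix m r → F) (i : Fin m) (v : Fin 2 → F) :
    polar (model m c) x (emb i v) = polar (sq2 F) (fun l => x (.inl (i, l))) v := by
  rw [polar_model, Fintype.sum_sum_type, Fintype.sum_prod_type, Finset.sum_eq_single i]
  · simp [emb, wt, QuadraticMap.polar, sq2_apply, Fin.sum_univ_two]; ring
  · intro j _ hj; simp [emb, hj]
  · simp

theorem model_emb (i : Fin m) (v : Fin 2 → F) : model m c (emb i v) = sq2 F v := by
  rw [model_apply, Finset.sum_eq_single i]
  · simp [emb, sq2_apply]
  · intro j _ hj; simp [emb, hj, sq2_apply]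
  · simp

theorem refl_emb (i : Fin m) (v : Fin 2 → F) :
    refl (model m c) (emb i v) = baseHom m c (Pi.mulSingle i (refl (sq2 F) v), 1) := by
  refine ext_app fun x => ext_blocks (fun j => ?_) fun k => ?_
  · rw [app_baseHom, baseMap_inl, app_refl, model_emb, polar_emb]
    by_cases hj : j = i
    · subst hj
      simp only [Pi.mulSingle_eq_same, app_refl]
      funext l
      simp [emb]
    · simp only [Pi.mulSingle_eq_of_ne hj, app_one]
      funext l
      simp [emb, hj]
  · rw [app_baseHom, baseMap_inr, app_refl]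
    simp [emb]

theorem model_single (hk : Fin r) : model m c (Pi.single (.inr hk) 1) = c hk := by
  rw [model_apply]
  simp [sq2_apply, Pi.single_apply]

theorem refl_single (h2 : (2 : F) ≠ 0) (k : Fin r) (hc : c k ≠ 0) :
    refl (model m c) (Pi.single (.inr k) 1) = baseHom m c (1, Pi.mulSingle k (-1)) := by
  refine ext_app fun x => ext_blocks (fun j => ?_) fun l => ?_
  · rw [app_baseHom, baseMap_inl, app_refl]
    funext l
    simp
  · rw [app_baseHom, baseMap_inr, app_refl, model_single, polar_model]
    by_cases hl : l = k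
    · subst hl
      simp [Pi.single_apply, wt]
      field_simp
      ring
    · simp [Pi.single_apply, hl, Pi.mulSingle_eq_of_ne hl]

theorem baseHom_topHom_inj (h2 : (2 : F) ≠ 0) {p : (Fin m → O (sq2 F)) × (Fin r → ℤˣ)}
    {π : Equiv.Perm (Fin m)} (h : baseHom m c p * topHom m c π = 1) : p = 1 ∧ π = 1 := by
  have hπ : π = 1 := by
    refine Equiv.ext fun i => ?_
    by_contra hne
    have h1 : ∀ x : Ix m r → F, app (p.1 (π i)) (fun l => x (.inl (i, l))) = fun l => x (.inl (π i, l)) := by
      intro x
      have := congrArg (fun g => fun l => app g x (.inl (π i, l))) h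
      simp only [app_one, app_mul, app_baseHom, baseMap_inl, app_topHom_inl,
        Equiv.symm_apply_apply] at this
      exact this
    have h' := h1 (emb i ![1, 0])
    have hq := congrArg (sq2 F) h'
    rw [Q_app, sq2_apply, sq2_apply] at hq
    simp [emb, show π i ≠ i by simpa using hne] at hq
  subst hπ
  rw [map_one, mul_one] at h
  refine ⟨Prod.ext (funext fun i => ?_) (funext fun k => ?_), rfl⟩
  · refine ext_app fun v => ?_
    have := congrArg (fun g => fun l => app g (emb i v) (.inl (i, l))) h
    simp only [app_one, app_baseHom, baseMap_inl] at this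
    simpa [emb] using this
  · have := congrArg (fun g => app g (Pi.single (.inr k) 1) (.inr k)) h
    simp [app_baseHom, baseMap_inr] at this
    rcases Int.units_eq_one_or (p.2 k) with hk | hk
    · exact hk
    · exfalso
      simp [hk] at this
      exact h2 (by linear_combination -this)

variable [Fintype F]

theorem chiPair_topHom [DecidableEq F] (h2 : (2 : F) ≠ 0) {d : F} (hd : ¬ IsSquare d)
    (π : Equiv.Perm (Fin m)) : chiPair (model m c) d (topHom m c π) = 1 := by
  induction π using Equiv.Perm.swap_induction_on with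
  | one => rw [map_one, map_one]
  | swap_mul f i j hij ih =>
    rw [map_mul, map_mul, ih, mul_one]
    let u : Fin 2 → Ix m r → F := fun b => emb i (Pi.single b 1) - emb j (Pi.single b 1)
    have hu : ∀ b, model m c (u b) = 2 := by
      intro b
      rw [model_apply, Fintype.sum_eq_add i j hij]
      · fin_cases b <;> simp [u, emb, sq2_apply, hij, hij.symm] <;> norm_num
      · intro k hk; simp [u, emb, hk.1, hk.2, sq2_apply]
    have heq : topHom m c (Equiv.swap i j) = refl (model m c) (u 0) * refl (model m c) (u 1) := by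
      have hp : ∀ (y : Ix m r → F) b, polar (model m c) y (u b) = 2 * (y (.inl (i, b)) - y (.inl (j, b))) := by
        intro y b
        show polar (model m c) y (emb i _ - emb j _) = _
        rw [QuadraticMap.polar_sub_right, polar_emb, polar_emb]
        fin_cases b <;> simp [QuadraticMap.polar, sq2_apply] <;> ring
      refine ext_app fun x => ext_blocks (fun k => ?_) fun k => ?_
      · rw [app_topHom_inl, app_mul, app_refl, app_refl, hu, hu, hp, hp]
        funext l
        by_cases h1 : k = i
        · subst h1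
          fin_cases l <;> simp [u, emb, hij] <;> field_simp <;> ring
        · by_cases h3 : k = j
          · subst h3
            fin_cases l <;> simp [u, emb, hij, h1] <;> field_simp <;> ring
          · simp [u, emb, h1, h3, Equiv.swap_apply_of_ne_of_ne h1 h3]
      · rw [app_topHom_inr, app_mul, app_refl, app_refl]
        simp [u, emb]
    rw [heq, map_mul, chiPair_refl h2 hd (by rw [hu]; exact h2), chiPair_refl h2 hd (by rw [hu]; exact h2),
      hu, hu]
    split_ifs <;> decide

/-- The main theorem for the model. -/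
theorem sylow_omega_model (h2 : (2 : F) ≠ 0) (hc : ∀ k, c k ≠ 0) (hm : 2 ≤ m)
    (hcard : (Nat.card (O (model m c))).factorization 2 =
      m * (Fintype.card F ^ 2 - 1).factorization 2 + m.factorial.factorization 2 + r) :
    ∀ P : Sylow 2 (commutator (O (model m c))),
      CfsgLib.WreathAb.ElemAb (P : Subgroup (commutator (O (model m c)))) := by
  classical
  obtain ⟨d, hd⟩ := FiniteField.exists_nonsquare (F := F)
    (fun hch => h2 (by exact_mod_cast (ringChar.spec F 2).2 (by rw [hch])))
  obtain ⟨v, D, hv, hDgen, hDcard⟩ := exists_plane_sylow h2 (F := F)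
  obtain ⟨S, hS, -, hcardS⟩ := Cfsg.Agent.S4623.exists_gens 2 m
  set Q := model m c with hQdef
  set R : Fin m → Fin 2 → O Q := fun i b => refl Q (emb i (v b)) with hR
  set E : Fin r → O Q := fun k => refl Q (Pi.single (.inr k) 1) with hE
  set T : Set (O Q) := topHom m c '' S with hT
  set gens := (Set.range fun p : Fin m × Fin 2 => R p.1 p.2) ∪ Set.range E ∪ T with hgens
  set W := Subgroup.closure gens with hW
  set K := Subgroup.closure S with hK
  have hREb : ∀ i b, R i b = baseHom m c (Pi.mulSingle i (refl (sq2 F) (v b)), 1) := fun i b =>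
    refl_emb c i (v b)
  have hEb : ∀ k, E k = baseHom m c (1, Pi.mulSingle k (-1)) := fun k => refl_single c h2 k (hc k)
  -- the monomial subgroup
  have vD : ∀ b, refl (sq2 F) (v b) ∈ D := fun b => hDgen ▸ Subgroup.subset_closure ⟨b, rfl⟩
  let W' : Subgroup (O Q) :=
    { carrier := {g | ∃ p : (Fin m → O (sq2 F)) × (Fin r → ℤˣ), (∀ i, p.1 i ∈ D) ∧
        ∃ π ∈ K, g = baseHom m c p * topHom m c π}
      one_mem' := ⟨1, fun _ => one_mem D, 1, one_mem K, by simp⟩
      mul_mem' := by
        rintro _ _ ⟨p, hp, π, hπ, rfl⟩ ⟨p', hp', π', hπ', rfl⟩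
        refine ⟨p * (p'.1 ∘ ⇑π.symm, p'.2), fun i => mul_mem (hp i) (hp' _), π * π', mul_mem hπ hπ', ?_⟩
        rw [map_mul, map_mul, mul_assoc, ← mul_assoc (topHom m c π), top_base c π p', ← mul_assoc,
          ← mul_assoc, mul_assoc]
      inv_mem' := by
        rintro _ ⟨p, hp, π, hπ, rfl⟩
        refine ⟨((p⁻¹).1 ∘ ⇑(π⁻¹).symm, (p⁻¹).2), fun i => inv_mem (hp _), π⁻¹, inv_mem hπ, ?_⟩
        rw [← top_base c π⁻¹ p⁻¹, map_inv, map_inv]
        exact (_root_.mul_inv_rev _ _) }
  have hWW' : W = W' := by
    apply le_antisymm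
    · rw [hW, Subgroup.closure_le]
      rintro _ ((⟨⟨i, b⟩, rfl⟩ | ⟨k, rfl⟩) | ⟨π, hπ, rfl⟩)
      · refine ⟨(Pi.mulSingle i (refl (sq2 F) (v b)), 1), fun j => ?_, 1, one_mem K, by simp [hREb]⟩
        by_cases hj : j = i
        · subst hj; simpa using vD b
        · simp [Pi.mulSingle_eq_of_ne hj, one_mem]
      · exact ⟨(1, Pi.mulSingle k (-1)), fun j => one_mem D, 1, one_mem K, by simp [hEb]⟩
      · exact ⟨1, fun _ => one_mem D, π, Subgroup.subset_closure hπ, by simp⟩
    · rintro _ ⟨p, hp, π, hπ, rfl⟩
      refine mul_mem ?_ ?_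
      · have h1 : baseHom m c (p.1, 1) ∈ W := by
          refine Subgroup.pi_mem_of_mulSingle_mem
            (H := W.comap ((baseHom m c).comp (MonoidHom.inl _ _))) p.1 fun i => ?_
          let j : O (sq2 F) →* O Q := ((baseHom m c).comp (MonoidHom.inl _ _)).comp
            (MonoidHom.mulSingle (fun _ : Fin m => O (sq2 F)) i)
          have hjD : D.map j ≤ W := by
            rw [hDgen, MonoidHom.map_closure, Subgroup.closure_le]
            rintro _ ⟨_, ⟨b, rfl⟩, rfl⟩
            refine Subgroup.subset_closure (Or.inl (Or.inl ⟨(i, b), ?_⟩))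
            exact hREb i b
          exact hjD ⟨p.1 i, hp i, rfl⟩
        have h3 : baseHom m c (1, p.2) ∈ W := by
          refine Subgroup.pi_mem_of_mulSingle_mem
            (H := W.comap ((baseHom m c).comp (MonoidHom.inr _ _))) p.2 fun k => ?_
          show baseHom m c (1, Pi.mulSingle k (p.2 k)) ∈ W
          rcases Int.units_eq_one_or (p.2 k) with h | h
          · rw [h, Pi.mulSingle_one]
            exact (map_one (baseHom m c)).symm ▸ one_mem W
          · rw [h, ← hEb]
            exact Subgroup.subset_closure (Or.inl (Or.inr ⟨k, rfl⟩))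
        have := mul_mem h1 h3
        rwa [← map_mul, Prod.mk_mul_mk, mul_one, one_mul] at this
      · have : K.map (topHom m c) ≤ W := by
          rw [hK, MonoidHom.map_closure]
          exact Subgroup.closure_mono fun g hg => Or.inr hg
        exact this ⟨π, hπ, rfl⟩
  have hWcard : Nat.card W = 2 ^ (Nat.card (O Q)).factorization 2 := by
    have hbij : Function.Bijective (fun x : ((Fin m → D) × (Fin r → ℤˣ)) × K =>
        (⟨baseHom m c (fun i => (x.1.1 i : O (sq2 F)), x.1.2) * topHom m c x.2,
          (fun i => (x.1.1 i : O (sq2 F)), x.1.2), fun i => (x.1.1 i).2, x.2, x.2.2, rfl⟩ : W')) := by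
      constructor
      · rintro ⟨⟨f, s⟩, π⟩ ⟨⟨g, t⟩, τ⟩ h
        have h' : baseHom m c (fun i => (f i : O (sq2 F)), s) * topHom m c π =
            baseHom m c (fun i => (g i : O (sq2 F)), t) * topHom m c τ := congrArg Subtype.val h
        have h4 : baseHom m c ((fun i => (g i : O (sq2 F)), t)⁻¹ * (fun i => (f i : O (sq2 F)), s)) *
            topHom m c ((π : Equiv.Perm (Fin m)) * (τ : Equiv.Perm (Fin m))⁻¹) = 1 := by
          rw [map_mul, map_mul, map_inv, map_inv, mul_assoc, ← mul_assoc (baseHom m c _) (topHom m c π),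
            h']
          group
        obtain ⟨e1, e2⟩ := baseHom_topHom_inj c h2 h4
        have e1' := inv_mul_eq_one.1 e1
        exact Prod.ext (Prod.ext (funext fun i => Subtype.ext (congrFun (congrArg Prod.fst e1') i).symm)
          (congrArg Prod.snd e1').symm) (Subtype.ext (mul_inv_eq_one.1 e2))
      · rintro ⟨_, p, hp, π, hπ, rfl⟩
        exact ⟨((fun i => ⟨p.1 i, hp i⟩, p.2), ⟨π, hπ⟩), rfl⟩
    rw [hWW', ← Nat.card_congr (Equiv.ofBijective _ hbij), Nat.card_prod, Nat.card_prod, Nat.card_fun,
      Nat.card_fun, Nat.card_fin, Nat.card_fin, hDcard, hcardS, ← pow_mul,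
      Nat.card_eq_fintype_card (α := ℤˣ), Fintype.card_units_int, ← pow_add, ← pow_add, hcard]
    congr 1
    ring
  have hTinv : ∀ t ∈ T, t * t = 1 := by
    rintro _ ⟨s, hs, rfl⟩
    rw [← map_mul, ← pow_two, hS s hs, map_one]
  have hQnd := model_nondegenerate c h2 hc (m := m)
  have hval : ∀ u, Q u ≠ 0 → chiPair Q d (refl Q u) = (-1, 1) ∨ chiPair Q d (refl Q u) = (1, -1) := by
    intro u hu
    rw [chiPair_refl h2 hd hu]
    split_ifs
    · exact Or.inl rfl
    · exact Or.inr rfl
  have hker := inf_ker_le_closure (chiPair Q d) R E T hm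
    (fun i b => refl_mul_self _) (fun k => refl_mul_self _) hTinv
    (by rintro _ ⟨s, -, rfl⟩; exact chiPair_topHom c h2 hd s)
    (fun i j b => by
      have hQR : ∀ i, Q (emb i (v b)) = sq2 F (v b) := fun i => model_emb c i (v b)
      simp only [hR]
      rw [chiPair_refl h2 hd (by rw [hQR]; exact hv b), chiPair_refl h2 hd (by rw [hQR]; exact hv b),
        hQR, hQR])
    (fun i j b b' hij => by
      rw [hREb, hREb]
      exact Commute.map (Commute.prod (Pi.mulSingle_commute (f := fun _ : Fin m => O (sq2 F)) hij _ _)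
        (Commute.one_left _)) _)
    (fun i b k => by
      rw [hREb, hEb]
      exact Commute.map (Commute.prod (Commute.one_right _) (Commute.one_left _)) _)
    (fun k l => by
      rw [hEb, hEb]
      exact Commute.map (Commute.prod (Commute.one_left _) (Commute.all _ _)) _)
    (a := ((-1, 1) : ℤˣ × ℤˣ)) (b := ((1, -1) : ℤˣ × ℤˣ)) (by decide) (by decide) (by decide)
    (fun i b => hval _ (by rw [hQdef, model_emb]; exact hv b))
    (fun k => hval _ (by rw [hQdef, model_single]; exact hc k)) W (by rw [hW, hgens])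
  -- pass to the commutator subgroup
  have hn : 2 ≤ Fintype.card (Ix m r) := by
    simp only [Fintype.card_sum, Fintype.card_prod, Fintype.card_fin]; omega
  have hΩ := commutator_eq hQnd h2 hd
  have hidx := index_commutator hQnd h2 hd hn
  have hV : 2 ≤ (Fintype.card F ^ 2 - 1).factorization 2 := by
    have := factorization_card_circ h2 (F := F)
    omega
  set N := (Nat.card (O Q)).factorization 2 with hN
  have hN2 : 2 ≤ N := by rw [hcard]; nlinarith
  set W₀ := W.subgroupOf (commutator (O Q)) with hW₀
  have hΩN : (Nat.card (commutator (O Q))).factorization 2 + 2 = N := by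
    have h := (commutator (O Q)).card_mul_index
    rw [hidx] at h
    rw [hN, ← h, Nat.factorization_mul Nat.card_pos.ne' (by norm_num), Finsupp.add_apply,
      show (4 : ℕ) = 2 ^ 2 by norm_num, Nat.factorization_pow_self Nat.prime_two]
  have hW₀card : Nat.card W₀ = 2 ^ (Nat.card (commutator (O Q))).factorization 2 := by
    have e1 : Nat.card W₀ * (commutator (O Q)).relIndex W = 2 ^ N := by
      rw [← hWcard, hW₀, ← ((commutator (O Q)).subgroupOf W).card_mul_index, Subgroup.relIndex]
      congr 1
      exact Nat.card_congr ((Subgroup.subgroupOfEquivOfLe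
        (inf_le_right : W ⊓ commutator (O Q) ≤ commutator (O Q))).symm.toEquiv.trans
        (Equiv.setCongr (by ext; simp)) |>.symm.trans
        ((Subgroup.subgroupOfEquivOfLe (inf_le_left : W ⊓ commutator (O Q) ≤ W)).symm.toEquiv.trans
        (Equiv.setCongr (by ext; simp [and_comm]))))
    obtain ⟨k, hk, hk'⟩ := (Nat.dvd_prime_pow Nat.prime_two).1 (Dvd.intro _ e1)
    obtain ⟨l, hl, hl'⟩ := (Nat.dvd_prime_pow Nat.prime_two).1
      ((Subgroup.relIndex_dvd_index_of_normal (H := commutator (O Q)) (K := W)).trans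
        (dvd_of_eq (hidx.trans (by norm_num : (4 : ℕ) = 2 ^ 2))))
    rw [hk', hl', ← pow_add] at e1
    have e2 := Nat.pow_right_injective le_rfl e1
    have hle : k ≤ (Nat.card (commutator (O Q))).factorization 2 :=
      (Nat.Prime.pow_dvd_iff_le_factorization Nat.prime_two Nat.card_pos.ne').1
        (hk' ▸ Subgroup.card_subgroup_dvd_card W₀)
    rw [hk']
    congr 1
    omega
  intro P
  refine CfsgLib.WreathAb.ElemAb.of_equiv ((Sylow.ofCard W₀ hW₀card).equiv P) ?_
  show CfsgLib.WreathAb.ElemAb W₀
  set J : Set (commutator (O Q)) := {x | (x : O Q) ∈ W ∧ x * x = 1} with hJ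
  have hW₀J : W₀ = Subgroup.closure J := by
    apply le_antisymm
    · intro x hx
      have hx' : (x : O Q) ∈ W ⊓ (chiPair Q d).ker := ⟨hx, hΩ ▸ x.2⟩
      have h3 : (x : O Q) ∈ (Subgroup.closure J).map (commutator (O Q)).subtype := by
        rw [MonoidHom.map_closure]
        refine Subgroup.closure_mono ?_ (hker hx')
        rintro y ⟨hy1, hy2, hy3⟩
        exact ⟨⟨y, hΩ.symm ▸ hy3⟩, ⟨hy1, Subtype.ext hy2⟩, rfl⟩
      obtain ⟨y, hy, hyx⟩ := h3
      rwa [← Subtype.ext hyx]
    · rw [Subgroup.closure_le]
      exact fun x hx => hx.1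
  rw [hW₀J]
  exact CfsgLib.WreathAb.elemAb_closure J fun s hs => by rw [pow_two]; exact hs.2

end CfsgLib.OmegaSylow76
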